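import Mathlib

/-!
The sum of a multiplicative function of the characteristic polynomial over all endomorphisms of a
finite vector space.
-/

set_option autoImplicit false

namespace CL.KG.Am

open Polynomial Module

universe u v

variable {K : Type u} [Field K]

/-- block triangular maps. -/
def blk {U W : Type*} [AddCommGroup U] [Module K U] [AddCommGroup W] [Module K W]
    (a : End K U) (b : W →ₗ[K] U) (d : End K W) : End K (U × W) :=
  LinearMap.prod (a ∘ₗ LinearMap.fst K U W + b ∘ₗ LinearMap.snd K U W) (d ∘ₗ LinearMap.snd K U W)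

theorem blk_apply {U W : Type*} [AddCommGroup U] [Module K U] [AddCommGroup W] [Module K W]
    (a : End K U) (b : W →ₗ[K] U) (d : End K W) (x : U) (w : W) :
    blk a b d (x, w) = (a x + b w, d w) := rfl

theorem charpoly_blk {U W : Type*} [AddCommGroup U] [Module K U] [AddCommGroup W] [Module K W]
    [Module.Finite K U] [Module.Finite K W] (a : End K U) (b : W →ₗ[K] U) (d : End K W) :
    (blk a b d).charpoly = a.charpoly * d.charpoly := by
  classical
  let b₁ := Module.finBasis K U
  let b₂ := Module.finBasis K W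
  rw [← LinearMap.charpoly_toMatrix (blk a b d) (b₁.prod b₂), ← LinearMap.charpoly_toMatrix a b₁,
    ← LinearMap.charpoly_toMatrix d b₂,
    ← Matrix.charpoly_fromBlocks_zero₂₁ _ (LinearMap.toMatrix b₂ b₁ b)]
  congr 1
  ext (i | i) (j | j) <;> simp [LinearMap.toMatrix_apply, blk]

/-- companion maps. -/
noncomputable def comp {j : ℕ} (c : Fin (j + 1) → K) : End K (Fin (j + 1) → K) :=
  (Pi.basisFun K (Fin (j + 1))).constr K
    (Fin.snoc (α := fun _ => Fin (j + 1) → K) (fun i : Fin j => Pi.single i.succ 1) c)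

theorem comp_cast {j : ℕ} (c : Fin (j + 1) → K) (i : Fin j) :
    comp c (Pi.single i.castSucc 1) = Pi.single i.succ 1 := by
  rw [comp, ← Pi.basisFun_apply, Basis.constr_basis, Fin.snoc_castSucc]

theorem comp_last {j : ℕ} (c : Fin (j + 1) → K) : comp c (Pi.single (Fin.last j) 1) = c := by
  rw [comp, ← Pi.basisFun_apply, Basis.constr_basis, Fin.snoc_last]

theorem comp_pow {j : ℕ} (c : Fin (j + 1) → K) (i : Fin (j + 1)) :
    (comp c ^ (i : ℕ)) (Pi.single 0 1) = Pi.single i 1 := by
  induction i using Fin.induction with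
  | zero => simp
  | succ i ih =>
    rw [Fin.val_succ, pow_succ', Module.End.mul_apply]
    rw [Fin.val_castSucc] at ih
    rw [ih, comp_cast]

theorem comp_pow_top {j : ℕ} (c : Fin (j + 1) → K) :
    (comp c ^ (j + 1)) (Pi.single 0 1) = c := by
  have := comp_pow c (Fin.last j)
  rw [Fin.val_last] at this
  rw [pow_succ', Module.End.mul_apply, this, comp_last]

theorem charpoly_comp {j : ℕ} (c : Fin (j + 1) → K) :
    (comp c).charpoly = X ^ (j + 1) + ∑ i, C (-c i) * X ^ (i : ℕ) := by
  have hm := (comp c).charpoly_monic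
  have hd : (comp c).charpoly.natDegree = j + 1 := by
    rw [LinearMap.charpoly_natDegree]; simp
  have h0 := congrArg (fun f : End K (Fin (j + 1) → K) => f (Pi.single 0 1))
    (comp c).aeval_self_charpoly
  have he : (comp c).charpoly = X ^ (j + 1) +
      ∑ i : Fin (j + 1), C ((comp c).charpoly.coeff i) * X ^ (i : ℕ) := by
    conv_lhs => rw [hm.as_sum, hd]
    rw [Finset.sum_range]
  rw [he] at h0
  simp only [map_add, map_pow, aeval_X, map_sum, map_mul, aeval_C, LinearMap.add_apply,
    LinearMap.sum_apply, Module.End.mul_apply, comp_pow, comp_pow_top, Module.algebraMap_end_apply,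
    LinearMap.zero_apply] at h0
  rw [he]
  congr 1
  refine Finset.sum_congr rfl fun i _ => ?_
  have := congrFun h0 i
  simp [Finset.sum_apply, Pi.single_apply] at this
  rw [eq_neg_of_add_eq_zero_right this]

variable [Fintype K]

theorem split (φ : K[X] → ℂ) (hm : ∀ P Q : K[X], P.Monic → Q.Monic → φ (P * Q) = φ P * φ Q)
    {V : Type v} [AddCommGroup V] [Module K V] [Module.Finite K V] [Fintype (End K V)]
    {j : ℕ} {v : Fin (j + 1) → V} (hv : LinearIndependent K v) :
    ∃ (W : Submodule K V) (_ : Fintype (End K W)), finrank K W + (j + 1) = finrank K V ∧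
      (open Classical in ∑ y : End K V with (∀ i : Fin j, y (v i.castSucc) = v i.succ) ∧
        y (v (Fin.last j)) ∈ Submodule.span K (Set.range v), φ y.charpoly) =
      (∑ c : Fin (j + 1) → K, φ (X ^ (j + 1) + ∑ i, C (-c i) * X ^ (i : ℕ))) *
        ((Fintype.card K : ℂ) ^ (finrank K W * (j + 1)) * ∑ d : End K W, φ d.charpoly) := by
  classical
  obtain ⟨W, hW⟩ := (Submodule.span K (Set.range v)).exists_isCompl
  have : Finite (End K W) := Module.finite_of_finite K
  have : Finite (W →ₗ[K] (Fin (j + 1) → K)) := Module.finite_of_finite K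
  letI := Fintype.ofFinite (End K W)
  letI := Fintype.ofFinite (W →ₗ[K] (Fin (j + 1) → K))
  let e : ((Fin (j + 1) → K) × W) ≃ₗ[K] V :=
    (LinearEquiv.prodCongr (Basis.span hv).equivFun.symm (LinearEquiv.refl K W)).trans
      (Submodule.prodEquivOfIsCompl _ _ hW)
  have he : ∀ i, e (Pi.single i 1, 0) = v i := fun i => by
    simp [e, Basis.equivFun_symm_apply, Pi.single_apply]
  have hmem : ∀ x, e (x, 0) ∈ Submodule.span K (Set.range v) := fun x => by
    simp only [e, LinearEquiv.trans_apply, LinearEquiv.prodCongr_apply, LinearEquiv.refl_apply,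
      Submodule.coe_prodEquivOfIsCompl', Submodule.coe_zero, add_zero]
    exact SetLike.coe_mem _
  have hsur : ∀ x ∈ Submodule.span K (Set.range v), ∃ c, e (c, 0) = x := fun x hx =>
    ⟨(Basis.span hv).equivFun ⟨x, hx⟩, by
      simp only [e, LinearEquiv.trans_apply, LinearEquiv.prodCongr_apply, LinearEquiv.refl_apply,
        Submodule.coe_prodEquivOfIsCompl', Submodule.coe_zero, add_zero,
        LinearEquiv.symm_apply_apply]⟩
  refine ⟨W, inferInstance, ?_, ?_⟩
  · rw [← e.finrank_eq]; simp [add_comm]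
  have hc : (Fintype.card K : ℂ) ^ (finrank K W * (j + 1)) =
      ∑ _b : W →ₗ[K] (Fin (j + 1) → K), (1 : ℂ) := by
    rw [Finset.sum_const, Finset.card_univ, Module.card_eq_pow_finrank (K := K)
      (V := W →ₗ[K] (Fin (j + 1) → K)), Module.finrank_linearMap]
    simp
  rw [hc, Finset.sum_mul_sum, ← Finset.sum_product', Finset.sum_mul_sum, ← Finset.sum_product']
  symm
  refine Finset.sum_bij (fun t _ => e.conj (blk (comp t.1) t.2.1 t.2.2)) ?_ ?_ ?_ ?_
  · rintro ⟨c, b, d⟩ -
    simp only [Finset.mem_filter, Finset.mem_univ, true_and, LinearEquiv.conj_apply_apply, ← he,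
      LinearEquiv.symm_apply_apply, blk_apply, map_zero, add_zero, comp_cast, comp_last,
      implies_true]
    simpa only [he] using hmem c
  · rintro ⟨c, b, d⟩ - ⟨c', b', d'⟩ - h
    have h' := e.conj.injective h
    have h1 := LinearMap.congr_fun h' (Pi.single (Fin.last j) 1, 0)
    simp only [blk_apply, map_zero, add_zero, comp_last, Prod.mk.injEq, and_true] at h1
    have h2 := fun w => LinearMap.congr_fun h' (0, w)
    simp only [blk_apply, map_zero, zero_add, Prod.mk.injEq] at h2
    rw [h1, LinearMap.ext fun w => (h2 w).1, LinearMap.ext fun w => (h2 w).2]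
  · intro y hy
    simp only [Finset.mem_filter, Finset.mem_univ, true_and] at hy
    obtain ⟨c, hc⟩ := hsur _ hy.2
    refine ⟨⟨c, LinearMap.fst K _ _ ∘ₗ e.symm.conj y ∘ₗ LinearMap.inr K _ _,
      LinearMap.snd K _ _ ∘ₗ e.symm.conj y ∘ₗ LinearMap.inr K _ _⟩, by simp, ?_⟩
    rw [← LinearEquiv.eq_symm_apply]
    refine LinearMap.prod_ext ((Pi.basisFun K (Fin (j + 1))).ext fun i => ?_) (LinearMap.ext fun w => ?_)
    · simp only [Pi.basisFun_apply, LinearMap.comp_apply, LinearMap.inl_apply, blk_apply, map_zero,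
        add_zero]
      apply e.injective
      have : e ((e.conj.symm y) (Pi.single i 1, 0)) = y (v i) := by
        rw [← he]; exact e.apply_symm_apply _
      rw [this]
      induction i using Fin.lastCases with
      | last => rw [comp_last, hc]
      | cast i => rw [comp_cast, he, hy.1]
    · simp only [LinearMap.comp_apply, LinearMap.inr_apply, blk_apply, map_zero, zero_add]
      rfl
  · rintro ⟨c, b, d⟩ -
    rw [LinearEquiv.charpoly_conj, charpoly_blk,
      hm _ _ (LinearMap.charpoly_monic _) (LinearMap.charpoly_monic _), charpoly_comp, one_mul]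

theorem step (φ : K[X] → ℂ) {V : Type v} [AddCommGroup V] [Module K V] [Module.Finite K V]
    [Fintype (End K V)] {j : ℕ} {v : Fin (j + 1) → V}
    (h : ∀ w, w ∉ Submodule.span K (Set.range v) →
      (open Classical in ∑ y : End K V with (∀ i : Fin (j + 1),
        y ((Fin.snoc (α := fun _ => V) v w : Fin (j + 2) → V) i.castSucc) =
          (Fin.snoc (α := fun _ => V) v w : Fin (j + 2) → V) i.succ), φ y.charpoly) = 0) :
    (open Classical in ∑ y : End K V with (∀ i : Fin j, y (v i.castSucc) = v i.succ),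
      φ y.charpoly) =
    (open Classical in ∑ y : End K V with (∀ i : Fin j, y (v i.castSucc) = v i.succ) ∧
        y (v (Fin.last j)) ∈ Submodule.span K (Set.range v), φ y.charpoly) := by
  classical
  have : Finite V := Module.finite_of_finite K
  letI := Fintype.ofFinite V
  rw [← Finset.sum_filter_add_sum_filter_not _
    (fun y : End K V => y (v (Fin.last j)) ∈ Submodule.span K (Set.range v)), Finset.filter_filter]
  convert add_zero _
  rw [← Finset.sum_fiberwise_of_maps_to (t := Finset.univ.filter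
    fun w : V => w ∉ Submodule.span K (Set.range v)) (g := fun y : End K V => y (v (Fin.last j)))
    (fun y hy => by simpa using (Finset.mem_filter.1 hy).2)]
  refine Finset.sum_eq_zero fun w hw => ?_
  have hw' : w ∉ Submodule.span K (Set.range v) := (Finset.mem_filter.1 hw).2
  rw [← h w hw']
  refine Finset.sum_congr ?_ fun _ _ => rfl
  ext y
  simp only [Finset.mem_filter, Finset.mem_univ, true_and, Fin.snoc_castSucc]
  constructor
  · rintro ⟨⟨h1, -⟩, h2⟩ i
    induction i using Fin.lastCases with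
    | last => rw [h2, Fin.succ_last, Fin.snoc_last]
    | cast i => rw [h1, Fin.succ_castSucc, Fin.snoc_castSucc]
  · intro h1
    have h2 := h1 (Fin.last j)
    rw [Fin.succ_last, Fin.snoc_last] at h2
    refine ⟨⟨fun i => ?_, by rw [h2]; exact hw'⟩, h2⟩
    have := h1 i.castSucc
    rwa [Fin.succ_castSucc, Fin.snoc_castSucc] at this

theorem zero (φ : K[X] → ℂ) (hm : ∀ P Q : K[X], P.Monic → Q.Monic → φ (P * Q) = φ P * φ Q)
    (hS : ∀ k, 2 ≤ k → ∑ c : Fin k → K, φ (X ^ k + ∑ i, C (c i) * X ^ (i : ℕ)) = 0)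
    {V : Type v} [AddCommGroup V] [Module K V] [Module.Finite K V] [Fintype (End K V)] (n : ℕ) :
    ∀ (j : ℕ) (v : Fin (j + 1) → V), finrank K V ≤ j + n → 1 ≤ j → LinearIndependent K v →
      (open Classical in ∑ y : End K V with (∀ i : Fin j, y (v i.castSucc) = v i.succ),
        φ y.charpoly) = 0 := by
  induction n with
  | zero =>
    intro j v h _ hv
    have := hv.fintype_card_le_finrank
    simp at this
    omega
  | succ n ih =>
    intro j v h h1 hv
    rw [step φ fun w hw => ih (j + 1) _ (by omega) (by omega) (linearIndependent_finSnoc.2 ⟨hv, hw⟩)]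
    obtain ⟨W, _, -, hW⟩ := split φ hm hv
    rw [hW, ← Equiv.sum_comp (Equiv.neg (Fin (j + 1) → K))]
    simp only [Equiv.neg_apply, Pi.neg_apply, neg_neg]
    rw [hS (j + 1) (by omega), zero_mul]

theorem sum_aux (φ : K[X] → ℂ) (h1 : φ 1 = 1)
    (hm : ∀ P Q : K[X], P.Monic → Q.Monic → φ (P * Q) = φ P * φ Q)
    (hS : ∀ k, 2 ≤ k → ∑ c : Fin k → K, φ (X ^ k + ∑ i, C (c i) * X ^ (i : ℕ)) = 0) (m : ℕ) :
    ∀ (V : Type v) [AddCommGroup V] [Module K V] [Module.Finite K V] [Fintype (End K V)],
      finrank K V = m → ∑ y : End K V, φ y.charpoly =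
        (Fintype.card K : ℂ) ^ (m * (m - 1) / 2) * (∑ a : K, φ (X - C a)) ^ m := by
  classical
  induction m with
  | zero =>
    intro V _ _ _ _ h
    have : Subsingleton V := Module.finrank_zero_iff.1 h
    have : Unique (End K V) := ⟨⟨0⟩, fun _ => LinearMap.ext fun _ => Subsingleton.elim _ _⟩
    rw [Fintype.sum_unique, (LinearMap.charpoly_monic _).natDegree_eq_zero.1
      (by rw [LinearMap.charpoly_natDegree, h]), h1]
    simp
  | succ m ih =>
    intro V _ _ _ _ h
    have : Nontrivial V := Module.nontrivial_of_finrank_eq_succ h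
    obtain ⟨x, hx⟩ := exists_ne (0 : V)
    have hv : LinearIndependent K (fun _ : Fin (0 + 1) => x) := (linearIndependent_unique_iff (v := fun _ : Fin 1 => x)).2 hx
    have hs := step φ (v := fun _ : Fin (0 + 1) => x) fun w hw =>
      zero φ hm hS (finrank K V) 1 _ (by omega) le_rfl (linearIndependent_finSnoc.2 ⟨hv, hw⟩)
    obtain ⟨W, _, hr, hW⟩ := split φ hm hv
    have hr' : finrank K W = m := by omega
    rw [hW, ih W hr', hr', Finset.filter_true_of_mem (fun _ _ i => i.elim0)] at hs
    have h2 : ∑ c : Fin (0 + 1) → K, φ (X ^ (0 + 1) + ∑ i, C (-c i) * X ^ (i : ℕ)) =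
        ∑ a : K, φ (X - C a) := by
      refine Fintype.sum_equiv (Equiv.funUnique (Fin 1) K) _ _ fun c => ?_
      simp [sub_eq_add_neg]
    rw [hs, h2, Nat.triangle_succ]
    ring

theorem sum (φ : K[X] → ℂ) (h1 : φ 1 = 1)
    (hm : ∀ P Q : K[X], P.Monic → Q.Monic → φ (P * Q) = φ P * φ Q)
    (hS : ∀ k, 2 ≤ k → ∑ c : Fin k → K, φ (X ^ k + ∑ i, C (c i) * X ^ (i : ℕ)) = 0)
    (V : Type v) [AddCommGroup V] [Module K V] [Module.Finite K V] [Fintype (End K V)] :
    ∑ y : End K V, φ y.charpoly =
      (Fintype.card K : ℂ) ^ (finrank K V * (finrank K V - 1) / 2) *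
        (∑ a : K, φ (X - C a)) ^ finrank K V :=
  sum_aux φ h1 hm hS _ V rfl

end CL.KG.Am
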