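import Cfsg.Agent.BLK.VChar
import Cfsg.Agent.CHAR.IndRep
import Cfsg.Agent.CHAR.Faithful

/-! Weighted traces of monomial representations. -/

set_option autoImplicit false
open Cfsg Subgroup MulAction

namespace CL.KG
open CL.Char CL.VCh

variable {H Y : Type*} [Group H] [Finite H] [Fintype Y] [MulAction H Y]

open Classical in
/-- One orbit: the induced linear character. -/
theorem orbit_mem (θ : Y → H → ℂ)
    (hmul : ∀ y a b, a • y = y → b • y = y → θ y (a * b) = θ y a * θ y b) (h1 : ∀ y, θ y 1 = 1)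
    (hconj : ∀ y g a, a • y = y → θ (g • y) (g * a * g⁻¹) = θ y a) (y₀ : Y) :
    IsCharacter H fun g => ∑ y : Y, if y ∈ orbit H y₀ ∧ g • y = y then θ y g else 0 := by
  have := Fintype.ofFinite H
  let μ : stabilizer H y₀ →* ℂ :=
    { toFun := fun a => θ y₀ a, map_one' := h1 y₀, map_mul' := fun a b => hmul y₀ a b a.2 b.2 }
  have hc := (isIrrCharacter_hom μ.toHomUnits).isCharacter.ind
  convert hc using 1
  funext g
  have hne : (Nat.card (stabilizer H y₀) : ℂ) ≠ 0 := Nat.cast_ne_zero.2 Nat.card_pos.ne'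
  rw [indFun_apply, eq_inv_mul_iff_mul_eq₀ hne,
    ← Finset.sum_fiberwise_of_maps_to (s := Finset.univ) (t := Finset.univ) (g := fun x : H => x • y₀)
      (fun _ _ => Finset.mem_univ _), Finset.mul_sum]
  refine Finset.sum_congr rfl fun y _ => ?_
  have key : ∀ x ∈ Finset.univ.filter fun x : H => x • y₀ = y,
      extendByZero (stabilizer H y₀) (fun a => ((μ.toHomUnits a : ℂˣ) : ℂ)) (x⁻¹ * g * x) =
        if g • y = y then θ y g else 0 := by
    intro x hx
    obtain rfl : x • y₀ = y := by simpa using hx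
    have hiff : x⁻¹ * g * x ∈ stabilizer H y₀ ↔ g • x • y₀ = x • y₀ := by
      rw [mem_stabilizer_iff, mul_smul, mul_smul, inv_smul_eq_iff]
    split_ifs with h
    · rw [extendByZero_of_mem _ _ (hiff.2 h)]
      have := hconj y₀ x (x⁻¹ * g * x) (hiff.2 h)
      rw [show x * (x⁻¹ * g * x) * x⁻¹ = g by group] at this
      exact this.symm
    · exact extendByZero_of_not_mem _ _ fun e => h (hiff.1 e)
  rw [Finset.sum_congr rfl key, Finset.sum_const, nsmul_eq_mul]
  by_cases hy : y ∈ orbit H y₀
  · obtain ⟨x₀, rfl⟩ := hy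
    have hcard : (Finset.univ.filter fun x : H => x • y₀ = x₀ • y₀).card =
        Nat.card (stabilizer H y₀) := by
      rw [← Fintype.card_subtype, ← Nat.card_eq_fintype_card]
      refine Nat.card_congr ⟨fun x => ⟨x₀⁻¹ * x.1, ?_⟩, fun a => ⟨x₀ * a.1, ?_⟩, fun x => ?_, fun a => ?_⟩
      · rw [mem_stabilizer_iff, mul_smul, x.2, inv_smul_smul]
      · rw [mul_smul, a.2]
      · simp
      · simp
    simp only [mem_orbit, true_and]
    rw [← hcard]
  · have : (Finset.univ.filter fun x : H => x • y₀ = y) = ∅ :=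
      Finset.filter_eq_empty_iff.2 fun x _ e => hy ⟨x, e⟩
    simp [hy, this]

open Classical in
/-- `g ↦ ∑_{g • y = y} c y * θ y g` is a combination of characters when `c` is invariant and integral and the
`θ y` form an equivariant family of linear characters of the stabilizers. -/
theorem mono (c : Y → ℂ) (hc : ∀ y, IsIntegral ℤ (c y)) (hinv : ∀ (g : H) y, c (g • y) = c y)
    (θ : Y → H → ℂ)
    (hmul : ∀ y a b, a • y = y → b • y = y → θ y (a * b) = θ y a * θ y b) (h1 : ∀ y, θ y 1 = 1)
    (hconj : ∀ y g a, a • y = y → θ (g • y) (g * a * g⁻¹) = θ y a) :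
    (fun g : H => ∑ y : Y, if g • y = y then c y * θ y g else 0) ∈ VC H := by
  have := Fintype.ofFinite (orbitRel.Quotient H Y)
  have h := (VC H).sum_mem (t := Finset.univ) (f := fun q : orbitRel.Quotient H Y =>
    c q.out • fun g : H => ∑ y : Y, if y ∈ orbit H q.out ∧ g • y = y then θ y g else 0)
    fun q _ => smul_mem (mem_of_char (orbit_mem θ hmul h1 hconj q.out)) (hc _)
  convert h using 1
  funext g
  simp only [Finset.sum_apply, Pi.smul_apply, smul_eq_mul, Finset.mul_sum]
  rw [Finset.sum_comm]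
  refine Finset.sum_congr rfl fun y _ => ?_
  rw [Finset.sum_eq_single (Quotient.mk'' y : orbitRel.Quotient H Y)]
  · have hy : y ∈ orbit H (Quotient.mk'' y : orbitRel.Quotient H Y).out :=
      orbitRel_apply.1 ((orbitRel H Y).symm (Quotient.mk_out' y))
    obtain ⟨x, hx⟩ := hy
    have hcy : c (Quotient.mk'' y : orbitRel.Quotient H Y).out = c y := by
      conv_rhs => rw [← hx]
      exact (hinv x _).symm
    have hy : y ∈ orbit H (Quotient.mk'' y : orbitRel.Quotient H Y).out := ⟨x, hx⟩
    simp only [hy, true_and, hcy, mul_ite, mul_zero]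
  · intro q _ hq
    rw [if_neg, mul_zero]
    rintro ⟨hy, -⟩
    exact hq (by rw [← q.out_eq']; exact (Quotient.sound' (orbitRel_apply.2 hy)).symm)
  · simp

end CL.KG
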